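import Cfsg.Agent.H613.KS.Defs
import Cfsg.Agent.H406.KKL.Dim

/-!
# S4577: weight dimensions for `D = 2^4` and an element of order five (helper159)

* `sum_subs` : for a group `E` of exponent two acting on `V` in odd characteristic and `a_1, …, a_m` in `E`:
  `2 Σ_S dim V(∏_S a, -1) + 2^m dim C_V(a_1, …, a_m) = 2^m dim V`.
-/

set_option autoImplicit false
set_option linter.unusedSectionVars false

namespace Cfsg.Agent.H159.KS

open Module Cfsg.Agent.H613.KS
open Cfsg.Agent.H406.KKL (eg mem_eg eg_ker split)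

section Lin

variable {k V : Type*} [Field k] [AddCommGroup V] [Module k V] {E : Type*} [Group E]

/-- all partial products -/
def subs : List E → List E
  | [] => [1]
  | a :: L => subs L ++ (subs L).map (· * a)

/-- the common fixed space -/
def fixL (ρ : E →* Module.End k V) (L : List E) : Submodule k V where
  carrier := {v | ∀ g ∈ L, ρ g v = v}
  add_mem' := by
    intro v w hv hw A hA
    rw [map_add, hv A hA, hw A hA]
  zero_mem' := fun A _ => map_zero _
  smul_mem' := by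
    intro c v hv A hA
    rw [map_smul, hv A hA]

theorem mem_fixL {ρ : E →* Module.End k V} {L : List E} {v : V} : v ∈ fixL ρ L ↔ ∀ g ∈ L, ρ g v = v := Iff.rfl

theorem length_subs : ∀ L : List E, (subs L).length = 2 ^ L.length
  | [] => rfl
  | a :: L => by
    rw [subs, List.length_append, List.length_map, length_subs L, List.length_cons, pow_succ]
    ring

theorem list_sum {α : Type*} (f g h : α → ℕ) (c : ℕ) : ∀ l : List α, (∀ A ∈ l, f A + g A = h A + c) →
    (l.map f).sum + (l.map g).sum = (l.map h).sum + l.length * c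
  | [], _ => by simp
  | a :: l, H => by
    have h1 := list_sum f g h c l fun A hA => H A (List.mem_cons_of_mem _ hA)
    have h2 := H a List.mem_cons_self
    simp only [List.map_cons, List.sum_cons, List.length_cons, add_mul, one_mul]
    omega

theorem comm_of_sq (hE : ∀ g : E, g * g = 1) (a b : E) : a * b = b * a := by
  have h1 := hE (a * b)
  have ha : a⁻¹ = a := inv_eq_of_mul_eq_one_left (hE a)
  have hb : b⁻¹ = b := inv_eq_of_mul_eq_one_left (hE b)
  have h2 : a * b = (a * b)⁻¹ := (inv_eq_of_mul_eq_one_left h1).symm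
  rw [h2, mul_inv_rev, ha, hb]

variable [FiniteDimensional k V]

/-- **the count** -/
theorem sum_subs (h2 : (2 : k) ≠ 0) (hE : ∀ g : E, g * g = 1) (ρ : E →* Module.End k V) :
    ∀ (L : List E) (W : Submodule k V), (∀ g : E, ∀ w ∈ W, ρ g w ∈ W) →
    2 * ((subs L).map fun g => finrank k ↥(W ⊓ eg (ρ g) (-1))).sum + 2 ^ L.length * finrank k ↥(W ⊓ fixL ρ L) =
      2 ^ L.length * finrank k W
  | [], W, _ => by
    have h3 : W ⊓ eg (ρ 1) (-1) = ⊥ := by
      rw [eq_bot_iff]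
      rintro v ⟨-, hv⟩
      rw [SetLike.mem_coe, mem_eg, map_one, Module.End.one_apply, neg_smul, one_smul] at hv
      have h5 : (2 : k) • v = 0 := by rw [two_smul]; exact eq_neg_iff_add_eq_zero.1 hv
      exact (smul_eq_zero.1 h5).resolve_left h2
    have h4 : W ⊓ fixL ρ ([] : List E) = W :=
      inf_eq_left.2 fun v _ => mem_fixL.2 fun A hA => absurd hA List.not_mem_nil
    simp only [subs, List.map_cons, List.map_nil, List.sum_cons, List.sum_nil, List.length_nil, pow_zero, add_zero]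
    rw [h3, h4, finrank_bot]
    ring
  | a :: L, W, hW => by
    have inv : ∀ (g h : E) (x : k), ∀ v ∈ eg (ρ g) x, ρ h v ∈ eg (ρ g) x := by
      intro g h x v hv
      rw [mem_eg] at hv ⊢
      have h1 : ρ g (ρ h v) = ρ h (ρ g v) := by
        rw [← Module.End.mul_apply, ← map_mul, comm_of_sq hE, map_mul, Module.End.mul_apply]
      rw [h1, hv, map_smul]
    have sq : ∀ g : E, ρ g * ρ g = 1 := fun g => by rw [← map_mul, hE, map_one]
    have iW : ∀ (W : Submodule k V) (x : k), (∀ g : E, ∀ w ∈ W, ρ g w ∈ W) →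
        ∀ g : E, ∀ w ∈ W ⊓ eg (ρ a) x, ρ g w ∈ W ⊓ eg (ρ a) x :=
      fun W x hW g w hw => ⟨hW g w hw.1, inv a g x w hw.2⟩
    have s0 := sum_subs h2 hE ρ L W hW
    have s1 := sum_subs h2 hE ρ L (W ⊓ eg (ρ a) 1) (iW W 1 hW)
    have s2 := sum_subs h2 hE ρ L (W ⊓ eg (ρ a) (-1)) (iW W (-1) hW)
    have d0 := split h2 (sq a) W (hW a)
    have f0 := split h2 (sq a) (W ⊓ fixL ρ L) (fun w hw => ⟨hW a w hw.1, fun g hg => by
      have h1 : ρ g (ρ a w) = ρ a (ρ g w) := by
        rw [← Module.End.mul_apply, ← map_mul, comm_of_sq hE, map_mul, Module.End.mul_apply]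
      rw [h1, hw.2 g hg]⟩)
    rw [inf_right_comm, inf_right_comm W (fixL ρ L)] at f0
    have f1 : W ⊓ fixL ρ (a :: L) = W ⊓ eg (ρ a) 1 ⊓ fixL ρ L := by
      ext v
      constructor
      · rintro ⟨h3, h4⟩
        refine ⟨⟨h3, ?_⟩, fun g hg => h4 g (List.mem_cons_of_mem _ hg)⟩
        rw [SetLike.mem_coe, mem_eg, one_smul]
        exact h4 a List.mem_cons_self
      · rintro ⟨⟨h3, h4⟩, h5⟩
        refine ⟨h3, fun g hg => ?_⟩
        rcases List.mem_cons.1 hg with rfl | hg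
        · rw [SetLike.mem_coe, mem_eg, one_smul] at h4
          exact h4
        · exact h5 g hg
    have key : ∀ g ∈ subs L, finrank k ↥(W ⊓ eg (ρ (g * a)) (-1)) + finrank k ↥(W ⊓ eg (ρ a) (-1) ⊓ eg (ρ g) (-1)) =
        finrank k ↥(W ⊓ eg (ρ a) 1 ⊓ eg (ρ g) (-1)) + finrank k ↥(W ⊓ eg (ρ a) (-1)) := by
      intro g _
      have e1 := split h2 (sq a) (W ⊓ eg (ρ (g * a)) (-1)) fun w hw => ⟨hW a w hw.1, inv _ a (-1) w hw.2⟩
      have e2 := split h2 (sq g) (W ⊓ eg (ρ a) (-1)) fun w hw => iW W (-1) hW g w hw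
      have e3 : W ⊓ eg (ρ (g * a)) (-1) ⊓ eg (ρ a) 1 = W ⊓ eg (ρ a) 1 ⊓ eg (ρ g) (-1) := by
        ext v
        constructor
        · rintro ⟨⟨h3, h4⟩, h5⟩
          refine ⟨⟨h3, h5⟩, ?_⟩
          rw [SetLike.mem_coe, mem_eg] at h4 h5 ⊢
          rwa [map_mul, Module.End.mul_apply, h5, one_smul] at h4
        · rintro ⟨⟨h3, h4⟩, h5⟩
          refine ⟨⟨h3, ?_⟩, h4⟩
          rw [SetLike.mem_coe, mem_eg] at h4 h5 ⊢
          rw [map_mul, Module.End.mul_apply, h4, one_smul, h5]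
      have e4 : W ⊓ eg (ρ (g * a)) (-1) ⊓ eg (ρ a) (-1) = W ⊓ eg (ρ a) (-1) ⊓ eg (ρ g) 1 := by
        ext v
        constructor
        · rintro ⟨⟨h3, h4⟩, h5⟩
          refine ⟨⟨h3, h5⟩, ?_⟩
          rw [SetLike.mem_coe, mem_eg] at h4 h5 ⊢
          rw [map_mul, Module.End.mul_apply, h5, map_smul, neg_smul, one_smul, neg_smul, one_smul] at h4
          rw [one_smul, neg_injective h4]
        · rintro ⟨⟨h3, h4⟩, h5⟩
          refine ⟨⟨h3, ?_⟩, h4⟩
          rw [SetLike.mem_coe, mem_eg] at h4 h5 ⊢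
          rw [map_mul, Module.End.mul_apply, h4, map_smul, h5, one_smul]
      rw [e3, e4] at e1
      omega
    have s3 := list_sum _ _ _ _ (subs L) key
    rw [length_subs] at s3
    rw [f1]
    simp only [subs, List.map_append, List.sum_append, List.map_map, Function.comp_def, List.length_cons, pow_succ]
    generalize hP : 2 ^ L.length = P at *
    generalize ((subs L).map fun g => finrank k ↥(W ⊓ eg (ρ g) (-1))).sum = S0 at *
    generalize ((subs L).map fun g => finrank k ↥(W ⊓ eg (ρ (g * a)) (-1))).sum = S3 at *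
    generalize ((subs L).map fun g => finrank k ↥(W ⊓ eg (ρ a) 1 ⊓ eg (ρ g) (-1))).sum = S1 at *
    generalize ((subs L).map fun g => finrank k ↥(W ⊓ eg (ρ a) (-1) ⊓ eg (ρ g) (-1))).sum = S2 at *
    rw [f0] at s0
    rw [d0] at s0 ⊢
    zify at *
    linear_combination s0 + s1 - s2 + 2 * s3

end Lin

/-! ### the five conjugates -/

section Five

variable {G : Type*} [Group G] {D : Subgroup G} {y : G}

/-- the conjugates of `a` -/
def cy (y a : G) (i : ℕ) : G := y ^ i * a * (y ^ i)⁻¹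

theorem cy_zero (y a : G) : cy y a 0 = a := by simp [cy]

theorem cy_succ (y a : G) (i : ℕ) : cy y a (i + 1) = y * cy y a i * y⁻¹ := by
  unfold cy
  rw [pow_succ']
  group

theorem cy_one (y a : G) : cy y a 1 = y * a * y⁻¹ := by simp [cy]

theorem cy_mul (y a b : G) (i : ℕ) : cy y (a * b) i = cy y a i * cy y b i := by
  unfold cy
  group

theorem cy_mem (hy : Five D y) {a : G} (ha : a ∈ D) : ∀ i, cy y a i ∈ D
  | 0 => by rwa [cy_zero]
  | i + 1 => by
    rw [cy_succ]
    exact (hy.norm _).2 (cy_mem hy ha i)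

theorem conj_inj {a b : G} (h : y * a * y⁻¹ = y * b * y⁻¹) : a = b := by
  have h1 := mul_right_cancel h
  exact mul_left_cancel h1

theorem cy_ne (hy : Five D y) {a : G} (a1 : a ≠ 1) : ∀ i, cy y a i ≠ 1
  | 0 => by rwa [cy_zero]
  | i + 1 => by
    rw [cy_succ]
    intro h
    apply cy_ne hy a1 i
    apply conj_inj (y := y)
    rw [h, mul_one, mul_inv_cancel]

theorem inv_of (h16 : E16 D) {a : G} (ha : a ∈ D) : a⁻¹ = a := inv_eq_of_mul_eq_one_left (h16.inv a ha)

theorem comm_of (h16 : E16 D) {a b : G} (ha : a ∈ D) (hb : b ∈ D) : a * b = b * a := by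
  have h1 := h16.inv _ (D.mul_mem ha hb)
  have h2 : a * b = (a * b)⁻¹ := (inv_eq_of_mul_eq_one_left h1).symm
  rw [h2, mul_inv_rev, inv_of h16 ha, inv_of h16 hb]

/-- an element of `D` fixed by `y` is trivial -/
theorem eq_one_of_fix (h16 : E16 D) (hy : Five D y) {a : G} (ha : a ∈ D) (h : y * a * y⁻¹ = a) : a = 1 := by
  by_contra a1
  have hle : Subgroup.zpowers a ≤ D := (Subgroup.zpowers_le).2 ha
  rcases hy.irr (Subgroup.zpowers a) hle (by
    intro b hb
    obtain ⟨i, rfl⟩ := Subgroup.mem_zpowers_iff.1 hb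
    rw [← conj_zpow, h]
    exact hb) with h1 | h1
  · rw [Subgroup.zpowers_eq_bot] at h1
    exact a1 h1
  · have h2 : Nat.card (Subgroup.zpowers a) = 16 := by rw [h1, h16.card]
    rw [Nat.card_zpowers] at h2
    have h3 : orderOf a ∣ 2 := orderOf_dvd_of_pow_eq_one (by rw [pow_two]; exact h16.inv a ha)
    rw [h2] at h3
    exact absurd (Nat.le_of_dvd (by norm_num) h3) (by norm_num)

/-- `y ^ 5` centralises `D` -/
theorem cy_five (h16 : E16 D) (hy : Five D y) {a : G} (ha : a ∈ D) : cy y a 5 = a := by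
  classical
  have hfin : Finite D := Nat.finite_of_card_ne_zero (by rw [h16.card]; norm_num)
  let f : D → D := fun b => ⟨y * b * y⁻¹, (hy.norm _).2 b.2⟩
  have hf : ∀ (i : ℕ) (b : D), ((f^[i] b : D) : G) = cy y b i := by
    intro i
    induction i with
    | zero => intro b; rw [cy_zero]; rfl
    | succ i ih =>
      intro b
      rw [Function.iterate_succ_apply', cy_succ, ← ih]
  obtain ⟨m, hm⟩ := hy.five
  let x : D := ⟨a, ha⟩
  have hper : Function.IsPeriodicPt f (5 ^ m) x := by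
    apply Subtype.ext
    rw [hf]
    unfold cy
    rw [← hm, pow_orderOf_eq_one, one_mul, inv_one, mul_one]
  have hd : Function.minimalPeriod f x ∣ 5 ^ m := hper.minimalPeriod_dvd
  obtain ⟨j, -, hj⟩ := (Nat.dvd_prime_pow (by norm_num)).1 hd
  have hle : Function.minimalPeriod f x ≤ 16 := by
    have h1 : Function.Injective (fun i : Fin (Function.minimalPeriod f x) => f^[i] x) := by
      intro i i' h
      exact Fin.ext (Function.iterate_injOn_Iio_minimalPeriod i.2 i'.2 h)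
    have h2 := Nat.card_le_card_of_injective _ h1
    rw [Nat.card_fin, h16.card] at h2
    exact h2
  have hj1 : j ≤ 1 := by
    by_contra hcon
    have h3 : 5 ^ 2 ≤ 5 ^ j := Nat.pow_le_pow_right (by norm_num) (by omega)
    rw [hj] at hle
    omega
  have h5 : Function.minimalPeriod f x ∣ 5 := by
    rw [hj]
    exact (pow_dvd_pow 5 hj1).trans (by norm_num)
  have h6 : Function.IsPeriodicPt f 5 x := (Function.isPeriodicPt_minimalPeriod f x).trans_dvd h5
  have h7 : ((f^[5] x : D) : G) = a := congrArg Subtype.val h6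
  rwa [hf] at h7

/-- the product of the five conjugates is trivial -/
theorem cy_prod (h16 : E16 D) (hy : Five D y) {a : G} (ha : a ∈ D) :
    cy y a 0 * cy y a 1 * cy y a 2 * cy y a 3 = cy y a 4 := by
  have hm := cy_mem hy ha
  have h1 : cy y a 0 * cy y a 1 * cy y a 2 * cy y a 3 * cy y a 4 = 1 := by
    apply eq_one_of_fix h16 hy (D.mul_mem (D.mul_mem (D.mul_mem (D.mul_mem (hm 0) (hm 1)) (hm 2)) (hm 3)) (hm 4))
    have h2 : y * (cy y a 0 * cy y a 1 * cy y a 2 * cy y a 3 * cy y a 4) * y⁻¹ =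
        (cy y a 1 * cy y a 2 * cy y a 3 * cy y a 4) * cy y a 5 := by
      have e0 : cy y a 1 = y * cy y a 0 * y⁻¹ := cy_succ y a 0
      have e1 : cy y a 2 = y * cy y a 1 * y⁻¹ := cy_succ y a 1
      have e2 : cy y a 3 = y * cy y a 2 * y⁻¹ := cy_succ y a 2
      have e3 : cy y a 4 = y * cy y a 3 * y⁻¹ := cy_succ y a 3
      have e4 : cy y a 5 = y * cy y a 4 * y⁻¹ := cy_succ y a 4
      calc y * (cy y a 0 * cy y a 1 * cy y a 2 * cy y a 3 * cy y a 4) * y⁻¹ =
            (y * cy y a 0 * y⁻¹) * (y * cy y a 1 * y⁻¹) * (y * cy y a 2 * y⁻¹) * (y * cy y a 3 * y⁻¹) *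
              (y * cy y a 4 * y⁻¹) := by group
        _ = _ := by rw [← e0, ← e1, ← e2, ← e3, ← e4]
    rw [h2, cy_five h16 hy ha, comm_of h16 (D.mul_mem (D.mul_mem (D.mul_mem (hm 1) (hm 2)) (hm 3)) (hm 4)) ha, cy_zero]
    simp only [mul_assoc]
  have h2 := eq_inv_of_mul_eq_one_left h1
  rw [h2, inv_of h16 (hm 4)]

/-- two of the five conjugates are different -/
theorem mul_cy_ne (h16 : E16 D) (hy : Five D y) {a : G} (ha : a ∈ D) (a1 : a ≠ 1) {i : ℕ} (hi : i = 1 ∨ i = 2) :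
    a * cy y a i ≠ 1 := by
  intro h
  have h1 : cy y a i = a := by
    have := eq_inv_of_mul_eq_one_right h
    rw [this, inv_of h16 ha]
  apply a1
  apply eq_one_of_fix h16 hy ha
  rcases hi with rfl | rfl
  · rwa [cy_one] at h1
  · have h2 : cy y a 4 = a := by
      rw [cy_succ y a 3, cy_succ y a 2, h1]
      rw [cy_succ y a 1, cy_succ y a 0, cy_zero] at h1
      simp only [mul_assoc] at h1 ⊢
      exact h1
    have h3 := cy_succ y a 4
    rw [cy_five h16 hy ha, h2] at h3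
    exact h3.symm

end Five

/-! ### weights -/

section Weights

variable {k V : Type*} [Field k] [AddCommGroup V] [Module k V] [FiniteDimensional k V]
  {G : Type*} [Group G] {D : Subgroup G} {y : G}

/-- the dimension of the `(-1)`-eigenspace -/
noncomputable def ed (ρ : G →* Module.End k V) (t : G) : ℕ := finrank k ↥(LinearMap.ker (ρ t + 1))

theorem ed_cy (ρ : G →* Module.End k V) (y a : G) (i : ℕ) : ed ρ (cy y a i) = ed ρ a := by
  have c1 : ∀ g v, ρ g (ρ g⁻¹ v) = v := fun g v => by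
    rw [← Module.End.mul_apply, ← map_mul, mul_inv_cancel, map_one]; rfl
  have c2 : ∀ g v, ρ g⁻¹ (ρ g v) = v := fun g v => by
    rw [← Module.End.mul_apply, ← map_mul, inv_mul_cancel, map_one]; rfl
  let g := y ^ i
  let e : V ≃ₗ[k] V := LinearEquiv.ofLinearMap (ρ g) (ρ g⁻¹) (LinearMap.ext (c1 g)) (LinearMap.ext (c2 g))
  have h1 : LinearMap.ker (ρ (cy y a i) + 1) = (LinearMap.ker (ρ a + 1)).map (e : V →ₗ[k] V) := by
    ext v
    have h2 : v ∈ (LinearMap.ker (ρ a + 1)).map (e : V →ₗ[k] V) ↔ ρ g⁻¹ v ∈ LinearMap.ker (ρ a + 1) :=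
      Submodule.mem_map_equiv _
    rw [h2, LinearMap.mem_ker, LinearMap.mem_ker, LinearMap.add_apply, LinearMap.add_apply, Module.End.one_apply,
      Module.End.one_apply]
    show ρ (g * a * g⁻¹) v + v = 0 ↔ _
    rw [map_mul, map_mul, Module.End.mul_apply, Module.End.mul_apply]
    constructor
    · intro h
      have h3 := congrArg (ρ g⁻¹) h
      rwa [map_add, c2, map_zero] at h3
    · intro h
      have h3 := congrArg (ρ g) h
      rwa [map_add, c1, map_zero] at h3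
  unfold ed
  rw [h1, LinearEquiv.finrank_map_eq]

theorem ed_one (h2 : (2 : k) ≠ 0) (ρ : G →* Module.End k V) : ed ρ 1 = 0 := by
  unfold ed
  have h3 : LinearMap.ker (ρ 1 + 1) = ⊥ := by
    rw [eq_bot_iff]
    intro v hv
    rw [map_one, LinearMap.mem_ker, LinearMap.add_apply, Module.End.one_apply, ← two_smul k v] at hv
    exact (smul_eq_zero.1 hv).resolve_left h2
  rw [h3, finrank_bot]

/-- the count for elements of `D` -/
theorem sum_D (h2 : (2 : k) ≠ 0) (ρ : G →* Module.End k V) (h16 : E16 D) (L : List D) :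
    2 * ((subs L).map fun g : D => ed ρ (g : G)).sum + 2 ^ L.length * finrank k ↥(fixL (ρ.comp D.subtype) L) =
      2 ^ L.length * finrank k V := by
  have h := sum_subs h2 (fun g : D => Subtype.ext (h16.inv g g.2)) (ρ.comp D.subtype) L ⊤
    (fun _ _ _ => Submodule.mem_top)
  rw [top_inf_eq, finrank_top] at h
  rw [← h]
  congr 3
  refine List.map_congr_left fun g _ => ?_
  rw [top_inf_eq, eg_ker]
  rfl

theorem arith {f f1 f2 f3 n x1 x2 x3 : ℕ} (h1 : f ≤ f1) (h2 : f ≤ f2) (h3 : f ≤ f3)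
    (T : 2 * (0 + (x1 + (x1 + (x2 + (x1 + (x3 + (x2 + (x2 + (x1 + (x3 + (x3 + (x3 + (x2 + (x3 + (x2 + (x1 + 0)))))))))))))))) +
      2 ^ (0 + 1 + 1 + 1 + 1) * f = 2 ^ (0 + 1 + 1 + 1 + 1) * n)
    (T1 : 2 * (0 + (x1 + (x2 + (x2 + (x2 + (x3 + (x3 + (x3 + 0)))))))) + 2 ^ (0 + 1 + 1 + 1) * f1 =
      2 ^ (0 + 1 + 1 + 1) * n)
    (T2 : 2 * (0 + (x1 + (x1 + (x3 + (x1 + (x3 + (x2 + (x3 + 0)))))))) + 2 ^ (0 + 1 + 1 + 1) * f2 =
      2 ^ (0 + 1 + 1 + 1) * n)
    (T3 : 2 * (0 + (x1 + (x1 + (x2 + (x1 + (x3 + (x2 + (x2 + 0)))))))) + 2 ^ (0 + 1 + 1 + 1) * f3 =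
      2 ^ (0 + 1 + 1 + 1) * n) :
    ∃ f w₁ w₂ w₃ : ℕ, n = f + 5 * (w₁ + w₂ + w₃) ∧ x1 = 2 * (w₁ + w₂ + w₃) + 2 * w₁ ∧
      x2 = 2 * (w₁ + w₂ + w₃) + 2 * w₂ ∧ x3 = 2 * (w₁ + w₂ + w₃) + 2 * w₃ := by
  obtain ⟨w₁, rfl⟩ := Nat.exists_eq_add_of_le h1
  obtain ⟨w₂, rfl⟩ := Nat.exists_eq_add_of_le h2
  obtain ⟨w₃, rfl⟩ := Nat.exists_eq_add_of_le h3
  clear h1 h2 h3
  refine ⟨f, w₁, w₂, w₃, ?_, ?_, ?_, ?_⟩
  all_goals
    norm_num at T T1 T2 T3
    linarith

set_option maxHeartbeats 2000000 in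
/-- **weight dimensions** -/
theorem weights (h2 : (2 : k) ≠ 0) (ρ : G →* Module.End k V) (h16 : E16 D) (hy : Five D y) {a : G} (ha : a ∈ D) :
    ∃ f w₁ w₂ w₃ : ℕ, finrank k V = f + 5 * (w₁ + w₂ + w₃) ∧ ed ρ a = 2 * (w₁ + w₂ + w₃) + 2 * w₁ ∧
      ed ρ (a * cy y a 1) = 2 * (w₁ + w₂ + w₃) + 2 * w₂ ∧ ed ρ (a * cy y a 2) = 2 * (w₁ + w₂ + w₃) + 2 * w₃ := by
  classical
  have hm := cy_mem hy ha
  set c : ℕ → G := cy y a with hcdef
  have hc0 : c 0 = a := cy_zero y a
  have hp : c 0 * c 1 * c 2 * c 3 = c 4 := cy_prod h16 hy ha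
  have h5 : c 5 = c 0 := by rw [hc0]; exact cy_five h16 hy ha
  -- the elements of D
  let d : ℕ → D := fun i => ⟨c i, hm i⟩
  have hsq : ∀ x : D, x * x = 1 := fun x => Subtype.ext (h16.inv x x.2)
  have hcm : ∀ x x' : D, x * x' = x' * x := comm_of_sq hsq
  have dp : d 0 * d 1 * d 2 * d 3 = d 4 := Subtype.ext hp
  have d5 : d 5 = d 0 := Subtype.ext h5
  -- the dimensions
  have cyc : ∀ j i, cy y (c i) j = c (i + j) := by
    intro j i
    show y ^ j * (y ^ i * a * (y ^ i)⁻¹) * (y ^ j)⁻¹ = y ^ (i + j) * a * (y ^ (i + j))⁻¹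
    rw [add_comm i j, pow_add]
    group
  let E : D → ℕ := fun g => ed ρ (g : G)
  have E1 : ∀ i, E (d i) = ed ρ a := fun i => ed_cy ρ y a i
  have Em : ∀ i i' j, E (d (i + j) * d (i' + j)) = E (d i * d i') := by
    intro i i' j
    show ed ρ (c (i + j) * c (i' + j)) = ed ρ (c i * c i')
    rw [← ed_cy ρ y (c i * c i') j, cy_mul, cyc, cyc]
  have E2 : ∀ i, E (d i * d (i + 1)) = ed ρ (a * c 1) := fun i => by
    have h := Em 0 1 i
    rw [zero_add, add_comm 1 i] at h
    rw [h]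
    show ed ρ (c 0 * c 1) = _
    rw [hc0]
  have E3 : ∀ i, E (d i * d (i + 2)) = ed ρ (a * c 2) := fun i => by
    have h := Em 0 2 i
    rw [zero_add, add_comm 2 i] at h
    rw [h]
    show ed ρ (c 0 * c 2) = _
    rw [hc0]
  have d6 : d 6 = d 1 := by
    apply Subtype.ext
    show c 6 = c 1
    have h := cyc 1 5
    have h' := cyc 1 0
    rw [← h, ← h', h5]
  have E01 := E2 0
  have E12 := E2 1
  have E23 := E2 2
  have E34 := E2 3
  have E40 := E2 4
  have E02 := E3 0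
  have E13 := E3 1
  have E24 := E3 2
  have E30 := E3 3
  have E41 := E3 4
  norm_num at E01 E12 E23 E34 E40 E02 E13 E24 E30 E41
  rw [d5] at E40 E30
  rw [d6] at E41
  -- the whole group
  have T := sum_D h2 ρ h16 [d 3, d 2, d 1, d 0]
  -- three subgroups of order 8
  have T1 := sum_D h2 ρ h16 [d 2 * d 3, d 1 * d 2, d 0]
  have T2 := sum_D h2 ρ h16 [d 4, d 3, d 1]
  have T3 := sum_D h2 ρ h16 [d 4, d 3, d 2]
  simp only [subs, List.map_cons, List.map_nil, List.cons_append, List.nil_append, List.sum_cons, List.sum_nil,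
    List.length_cons, List.length_nil, one_mul] at T T1 T2 T3
  have hlc : ∀ x y z : D, x * (y * z) = y * (x * z) := fun x y z => by rw [← mul_assoc, hcm x y, mul_assoc]
  have hsq' : ∀ x y : D, x * (x * y) = y := fun x y => by rw [← mul_assoc, hsq, one_mul]
  have i012 : d 0 * d 1 * d 2 = d 3 * d 4 := by
    rw [← dp]; simp only [mul_assoc, hcm, hlc, hsq, hsq', mul_one, one_mul]
  have i03 : d 0 * d 3 = d 3 * d 0 := hcm _ _
  have i013 : d 0 * d 1 * d 3 = d 2 * d 4 := by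
    rw [← dp]; simp only [mul_assoc, hcm, hlc, hsq, hsq', mul_one, one_mul]
  have i023 : d 0 * d 2 * d 3 = d 4 * d 1 := by
    rw [← dp]; simp only [mul_assoc, hcm, hlc, hsq, hsq', mul_one, one_mul]
  have i123 : d 1 * d 2 * d 3 = d 4 * d 0 := by
    rw [← dp]; simp only [mul_assoc, hcm, hlc, hsq, hsq', mul_one, one_mul]
  have j0 : d 0 * (d 1 * d 2) = d 3 * d 4 := by rw [← mul_assoc, i012]
  have j1 : d 0 * (d 2 * d 3) = d 4 * d 1 := by rw [← mul_assoc, i023]
  have j2 : d 1 * d 2 * (d 2 * d 3) = d 1 * d 3 := by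
    simp only [mul_assoc, hsq']
  have j3 : d 0 * (d 1 * d 2) * (d 2 * d 3) = d 2 * d 4 := by
    rw [← i013]; simp only [mul_assoc, hsq']
  have j4 : d 1 * d 4 = d 4 * d 1 := hcm _ _
  have j5 : d 1 * d 3 * d 4 = d 0 * d 2 := by
    rw [← dp]; simp only [mul_assoc, hcm, hlc, hsq, hsq', mul_one, one_mul]
  have j6 : d 2 * d 3 * d 4 = d 0 * d 1 := by
    rw [← dp]; simp only [mul_assoc, hcm, hlc, hsq, hsq', mul_one, one_mul]
  have e0 : ed ρ ((1 : D) : G) = 0 := ed_one h2 ρ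
  have E1' : ∀ i, ed ρ ((d i : D) : G) = ed ρ a := E1
  rw [dp, i012, i03, i013, i023, i123] at T
  rw [j3, j0, j1, j2] at T1
  rw [j4, j5] at T2
  rw [j6] at T3
  simp only [e0, E1'] at T T1 T2 T3
  change ed ρ _ = _ at E01 E12 E23 E34 E40 E02 E13 E24 E30 E41
  rw [E01, E02, E12, E34, E30, E13, E24, E23, E41, E40] at T
  rw [E12, E34, E23, E41, E13, E24] at T1
  rw [E13, E41, E34, E02] at T2
  rw [E23, E24, E34, E01] at T3
  -- the fixed spaces
  have m0 : ∀ v ∈ fixL (ρ.comp D.subtype) [d 3, d 2, d 1, d 0], (ρ.comp D.subtype) (d 0) v = v := fun v hv =>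
    hv _ (by simp)
  have m1 : ∀ v ∈ fixL (ρ.comp D.subtype) [d 3, d 2, d 1, d 0], (ρ.comp D.subtype) (d 1) v = v := fun v hv =>
    hv _ (by simp)
  have m2 : ∀ v ∈ fixL (ρ.comp D.subtype) [d 3, d 2, d 1, d 0], (ρ.comp D.subtype) (d 2) v = v := fun v hv =>
    hv _ (by simp)
  have m3 : ∀ v ∈ fixL (ρ.comp D.subtype) [d 3, d 2, d 1, d 0], (ρ.comp D.subtype) (d 3) v = v := fun v hv =>
    hv _ (by simp)
  have mm : ∀ (g g' : D) (v : V), (ρ.comp D.subtype) g v = v → (ρ.comp D.subtype) g' v = v →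
      (ρ.comp D.subtype) (g * g') v = v := by
    intro g g' v hg hg'
    rw [map_mul, Module.End.mul_apply, hg', hg]
  have m4 : ∀ v ∈ fixL (ρ.comp D.subtype) [d 3, d 2, d 1, d 0], (ρ.comp D.subtype) (d 4) v = v := fun v hv => by
    rw [← dp]
    exact mm _ _ v (mm _ _ v (mm _ _ v (m0 v hv) (m1 v hv)) (m2 v hv)) (m3 v hv)
  have h1 : finrank k ↥(fixL (ρ.comp D.subtype) [d 3, d 2, d 1, d 0]) ≤
      finrank k ↥(fixL (ρ.comp D.subtype) [d 2 * d 3, d 1 * d 2, d 0]) := by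
    refine Submodule.finrank_mono fun v hv => mem_fixL.2 fun g hg => ?_
    simp only [List.mem_cons, List.not_mem_nil, or_false] at hg
    rcases hg with rfl | rfl | rfl
    · exact mm _ _ v (m2 v hv) (m3 v hv)
    · exact mm _ _ v (m1 v hv) (m2 v hv)
    · exact m0 v hv
  have h2 : finrank k ↥(fixL (ρ.comp D.subtype) [d 3, d 2, d 1, d 0]) ≤
      finrank k ↥(fixL (ρ.comp D.subtype) [d 4, d 3, d 1]) := by
    refine Submodule.finrank_mono fun v hv => mem_fixL.2 fun g hg => ?_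
    simp only [List.mem_cons, List.not_mem_nil, or_false] at hg
    rcases hg with rfl | rfl | rfl
    · exact m4 v hv
    · exact m3 v hv
    · exact m1 v hv
  have h3 : finrank k ↥(fixL (ρ.comp D.subtype) [d 3, d 2, d 1, d 0]) ≤
      finrank k ↥(fixL (ρ.comp D.subtype) [d 4, d 3, d 2]) := by
    refine Submodule.finrank_mono fun v hv => mem_fixL.2 fun g hg => ?_
    simp only [List.mem_cons, List.not_mem_nil, or_false] at hg
    rcases hg with rfl | rfl | rfl
    · exact m4 v hv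
    · exact m3 v hv
    · exact m2 v hv
  exact arith h1 h2 h3 T T1 T2 T3

end Weights

end Cfsg.Agent.H159.KS
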